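import Cfsg.Agent.H99.E6.Cubic
import Cfsg.Agent.H99.E6.Fi22.Data

/-! Matrices over the field with four elements as bit masks, with a sound interpretation in any
field of characteristic two containing a root of `x² + x + 1`. -/

set_option autoImplicit false
set_option maxHeartbeats 1000000

namespace Cfsg.Agent.H99.E6.Fi22

open Matrix

/-- sum of rows -/
def rx (r s : Row) : Row := (r.1 ^^^ s.1, r.2 ^^^ s.2)

/-- a row or zero -/
def sel (c : Bool) (r : Row) : Row := if c then r else (0, 0)

/-- multiplication by the root -/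
def womega (r : Row) : Row := (r.2, r.1 ^^^ r.2)

/-- scalar multiple -/
def scl (α β : Bool) (r : Row) : Row := rx (sel α r) (sel β (womega r))

/-- row times matrix -/
def rowMul : BM → Row → Row
  | [], _ => (0, 0)
  | R :: B, r => rx (scl (r.1.testBit 0) (r.2.testBit 0) R) (rowMul B (r.1 / 2, r.2 / 2))

/-- product -/
def mulB (A B : BM) : BM := A.map (rowMul B)

/-- sum -/
def addB (A B : BM) : BM := A.zipWith rx B

/-- unit matrix -/
def oneB : BM := (List.range 27).map fun i => (2 ^ i, 0)

/-- scalar matrix -/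
def scalB (α β : Bool) : BM := oneB.map (scl α β)

/-- the matrix of a root element -/
def xBM (L : Sp) (α β : Bool) : BM :=
  (List.finRange 27).map fun i =>
    ((L.filter fun e => e.1 = i).map fun e => scl α β (2 ^ e.2.1.val, 0)).foldr rx (2 ^ i.val, 0)

/-- product of a list of matrices -/
def prodB (l : List BM) : BM := l.foldr mulB oneB

variable {K : Type*} [Field K]

/-- the value of a bit -/
def bit (K : Type*) [Field K] (b : Bool) : K := if b then 1 else 0

/-- the value of an entry -/
def val (ω : K) (r : Row) (j : ℕ) : K := bit K (r.1.testBit j) + bit K (r.2.testBit j) * ω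

/-- the value of two bits -/
def cval (ω : K) (α β : Bool) : K := bit K α + bit K β * ω

theorem bit_xor [CharP K 2] (a b : Bool) : bit K (a ^^ b) = bit K a + bit K b := by
  cases a <;> cases b <;> simp [bit, CharTwo.add_self_eq_zero]

theorem val_rx [CharP K 2] (ω : K) (r s : Row) (j : ℕ) :
    val ω (rx r s) j = val ω r j + val ω s j := by
  simp only [val, rx, Nat.testBit_xor, bit_xor]
  ring

theorem val_zero (ω : K) (j : ℕ) : val ω (0, 0) j = 0 := by simp [val, bit]

theorem val_sel (ω : K) (c : Bool) (r : Row) (j : ℕ) : val ω (sel c r) j = bit K c * val ω r j := by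
  cases c <;> simp [sel, bit, val_zero]

theorem val_womega [CharP K 2] {ω : K} (h : ω ^ 2 + ω + 1 = 0) (r : Row) (j : ℕ) :
    val ω (womega r) j = ω * val ω r j := by
  simp only [val, womega, Nat.testBit_xor, bit_xor]
  linear_combination -(bit K (r.2.testBit j)) * h +
    (bit K (r.2.testBit j) * ω + bit K (r.2.testBit j)) * CharTwo.two_eq_zero (R := K)

theorem val_scl [CharP K 2] {ω : K} (h : ω ^ 2 + ω + 1 = 0) (α β : Bool) (r : Row) (j : ℕ) :
    val ω (scl α β r) j = cval ω α β * val ω r j := by
  rw [scl, val_rx, val_sel, val_sel, val_womega h, cval]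
  ring

theorem val_two_pow (ω : K) (i j : ℕ) : val ω (2 ^ i, 0) j = if i = j then 1 else 0 := by
  simp [val, bit, Nat.testBit_two_pow]

theorem testBit_half (n k : ℕ) : (n / 2).testBit k = n.testBit (k + 1) := (Nat.testBit_succ n k).symm

theorem val_rowMul [CharP K 2] {ω : K} (h : ω ^ 2 + ω + 1 = 0) :
    ∀ (B : BM) (r : Row) (j : ℕ),
      val ω (rowMul B r) j = ∑ k ∈ Finset.range B.length, val ω r k * val ω (B.getD k (0, 0)) j
  | [], r, j => by simp [rowMul, val_zero]
  | R :: B, r, j => by
    rw [rowMul, val_rx, val_scl h, val_rowMul h B, List.length_cons, Finset.sum_range_succ',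
      add_comm]
    congr 1
    refine Finset.sum_congr rfl fun k _ => ?_
    simp [val, testBit_half]

/-- the interpretation -/
def toMat (ω : K) (A : BM) : Matrix (Fin 27) (Fin 27) K :=
  Matrix.of fun i j => val ω (A.getD i.val (0, 0)) j.val

/-- the interpretation of a column -/
def colv (ω : K) (A : BM) : Fin 27 → K := fun i => val ω (A.getD i.val (0, 0)) 0

theorem getD_map_row (f : Row → Row) (A : BM) (i : ℕ) (hi : i < A.length) :
    (A.map f).getD i (0, 0) = f (A.getD i (0, 0)) := by
  simp [hi]

theorem val_mulB [CharP K 2] {ω : K} (h : ω ^ 2 + ω + 1 = 0) {A B : BM} (hA : A.length = 27)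
    (hB : B.length = 27) (i : Fin 27) (j : ℕ) :
    val ω ((mulB A B).getD i.val (0, 0)) j =
      ∑ k : Fin 27, val ω (A.getD i.val (0, 0)) k.val * val ω (B.getD k.val (0, 0)) j := by
  rw [mulB, getD_map_row _ _ _ (by rw [hA]; exact i.isLt), val_rowMul h, hB, Finset.sum_range]

theorem toMat_mulB [CharP K 2] {ω : K} (h : ω ^ 2 + ω + 1 = 0) {A B : BM} (hA : A.length = 27)
    (hB : B.length = 27) : toMat ω (mulB A B) = toMat ω A * toMat ω B := by
  ext i j
  simp only [toMat, Matrix.of_apply, Matrix.mul_apply]
  exact val_mulB h hA hB i j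

theorem colv_mulB [CharP K 2] {ω : K} (h : ω ^ 2 + ω + 1 = 0) {A B : BM} (hA : A.length = 27)
    (hB : B.length = 27) : colv ω (mulB A B) = toMat ω A *ᵥ colv ω B :=
  funext fun i => val_mulB h hA hB i 0

theorem length_mulB (A B : BM) : (mulB A B).length = A.length := List.length_map _

theorem length_oneB : oneB.length = 27 := rfl

theorem toMat_oneB (ω : K) : toMat ω oneB = 1 := by
  ext i j
  simp only [toMat, Matrix.of_apply, Matrix.one_apply]
  rw [show oneB.getD i.val (0, 0) = (2 ^ i.val, 0) by simp [oneB, i.isLt], val_two_pow]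
  simp [Fin.ext_iff]

theorem length_addB {A B : BM} (hA : A.length = 27) (hB : B.length = 27) :
    (addB A B).length = 27 := by simp [addB, hA, hB]

theorem toMat_addB [CharP K 2] (ω : K) {A B : BM} (hA : A.length = 27) (hB : B.length = 27) :
    toMat ω (addB A B) = toMat ω A + toMat ω B := by
  ext i j
  simp only [toMat, Matrix.of_apply, Matrix.add_apply]
  rw [← val_rx]
  simp [addB, hA, hB, i.isLt]

theorem toMat_scalB [CharP K 2] {ω : K} (h : ω ^ 2 + ω + 1 = 0) (α β : Bool) :
    toMat ω (scalB α β) = cval ω α β • (1 : Matrix (Fin 27) (Fin 27) K) := by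
  rw [← toMat_oneB ω]
  ext i j
  simp only [toMat, Matrix.of_apply, Matrix.smul_apply, smul_eq_mul]
  rw [scalB, getD_map_row _ _ _ (by rw [length_oneB]; exact i.isLt), val_scl h]

theorem cval_ne_zero [CharP K 2] {ω : K} (h : ω ^ 2 + ω + 1 = 0) {α β : Bool} (hab : (α || β) = true) :
    cval ω α β ≠ 0 := by
  cases α <;> cases β <;> simp_all [cval, bit]
  · rintro rfl; simp at h
  · intro h1
    have : ω = 1 := by
      linear_combination h1 - CharTwo.two_eq_zero (R := K)
    subst this
    exact one_ne_zero (by linear_combination h - CharTwo.two_eq_zero (R := K))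

theorem val_foldr [CharP K 2] (ω : K) (j : ℕ) (r : Row) : ∀ l : List Row,
    val ω (l.foldr rx r) j = (l.map fun s => val ω s j).sum + val ω r j
  | [] => by simp
  | s :: l => by
    rw [List.foldr_cons, val_rx, val_foldr ω j r l, List.map_cons, List.sum_cons, add_assoc]

theorem toMat_xBM [CharP K 2] {ω : K} (h : ω ^ 2 + ω + 1 = 0) (L : Sp)
    (hL : ∀ e ∈ L, e.2.2 % 2 = 1) (α β : Bool) :
    toMat ω (xBM L α β) = 1 + cval ω α β • (toM L : Matrix (Fin 27) (Fin 27) K) := by
  ext i j
  simp only [toMat, Matrix.of_apply, Matrix.add_apply, Matrix.smul_apply, smul_eq_mul]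
  rw [show (xBM L α β).getD i.val (0, 0) =
      ((L.filter fun e => e.1 = i).map fun e => scl α β (2 ^ e.2.1.val, 0)).foldr rx (2 ^ i.val, 0) by
    simp [xBM, i.isLt], val_foldr, val_two_pow, Matrix.one_apply, add_comm]
  simp only [Fin.ext_iff]
  congr 1
  induction L with
  | nil => simp
  | cons e L ih =>
    have he : (e.2.2 : K) = 1 := by
      obtain ⟨k, hk⟩ : ∃ k, e.2.2 = 2 * k + 1 := ⟨e.2.2 / 2, by
        have := hL e List.mem_cons_self; omega⟩
      rw [hk]; push_cast; rw [CharTwo.two_eq_zero]; ring
    rw [toM_cons, Matrix.add_apply, mul_add, ← ih fun x hx => hL x (List.mem_cons_of_mem _ hx),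
      Matrix.single_apply, he]
    by_cases hi : e.1 = i
    · subst hi
      simp only [List.filter_cons, decide_true, if_true, List.map_cons, List.sum_cons, val_scl h,
        val_two_pow, Fin.ext_iff, true_and]
    · have hi' : ¬ e.1.val = i.val := fun e' => hi (Fin.ext e')
      simp [hi, hi']

theorem length_xBM (L : Sp) (α β : Bool) : (xBM L α β).length = 27 := by simp [xBM]

theorem length_prodB : ∀ l : List BM, (∀ A ∈ l, A.length = 27) → (prodB l).length = 27
  | [], _ => length_oneB
  | A :: l, h => by
    rw [show prodB (A :: l) = mulB A (prodB l) from rfl, length_mulB, h A List.mem_cons_self]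

theorem toMat_prodB [CharP K 2] {ω : K} (h : ω ^ 2 + ω + 1 = 0) : ∀ l : List BM,
    (∀ A ∈ l, A.length = 27) → toMat ω (prodB l) = (l.map (toMat ω)).prod
  | [], _ => toMat_oneB ω
  | A :: l, hl => by
    rw [show prodB (A :: l) = mulB A (prodB l) from rfl,
      toMat_mulB h (hl A List.mem_cons_self)
        (length_prodB l fun B hB => hl B (List.mem_cons_of_mem _ hB)),
      toMat_prodB h l fun B hB => hl B (List.mem_cons_of_mem _ hB), List.map_cons, List.prod_cons]

end Cfsg.Agent.H99.E6.Fi22
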