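import Cfsg.Agent.H99.E6.Fi22.Irr
import Cfsg.Agent.H45.Fi22Top
import Cfsg.Prelude.Def_KGroupFacts

/-! Twists with different parameters of a subgroup of `Fi₂₂` containing `b, ..., i` are not conjugate
when the square of every automorphism of the subgroup is inner. -/

set_option autoImplicit false
set_option maxHeartbeats 1000000
set_option maxRecDepth 100000

namespace Cfsg.Agent.H99.E6.Fi22

open Matrix Cfsg.Lie Cfsg.Agent.H99.E6.FourTwo

variable {K : Type*} [Field K]

local notation "M27" => Matrix (Fin 27) (Fin 27) K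

/-- the projective group -/
abbrev PG (K : Type*) [Field K] := GL (Fin 27) K ⧸ Subgroup.center (GL (Fin 27) K)

/-- the class of a matrix -/
abbrev cl : GL (Fin 27) K →* PG K := QuotientGroup.mk' _

theorem cl_eq_one_of_scalar {g : GL (Fin 27) K} {c : K} (hc : (g : M27) = c • (1 : M27)) :
    cl g = 1 := by
  refine (QuotientGroup.eq_one_iff g).2 (Subgroup.mem_center_iff.2 fun x => Units.ext ?_)
  rw [Units.val_mul, Units.val_mul, hc]; simp

theorem scalar_of_cl {g : GL (Fin 27) K} (h : cl g = 1) : ∃ c : K, (g : M27) = c • (1 : M27) := by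
  have h' := Subgroup.mem_center_iff.1 ((QuotientGroup.eq_one_iff g).1 h)
  refine scalar_of_commute fun r => ?_
  have h1 := congrArg (fun x : GL (Fin 27) K => (x : M27)) (h' (X r 1))
  simp only [Units.val_mul, X_val, one_smul, Matrix.add_mul, Matrix.mul_add,
    Matrix.one_mul, Matrix.mul_one] at h1
  exact (add_left_cancel h1).symm

theorem T_smul (c : K) (v : Fin 27 → K) : T (c • v) = c ^ 3 * T v := by
  rw [T, T, evalC, evalC, ← List.sum_map_mul_left]
  refine congrArg List.sum (List.map_congr_left fun m _ => ?_)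
  simp only [Pi.smul_apply, smul_eq_mul]
  ring

theorem T_dia_inv {u : Kˣ} (hu3 : u ^ 3 = 1) (v : Fin 27 → K) :
    T (act (dia u)⁻¹ v) = (u : K)⁻¹ * T v := by
  have h : T v = (u : K) * T (act (dia u)⁻¹ v) := by
    rw [← T_dia hu3, ← act_mul, mul_inv_cancel, act_one]
  rw [h, ← mul_assoc, inv_mul_cancel₀ u.ne_zero, one_mul]

theorem dia_one : dia (1 : Kˣ) = (1 : GL (Fin 27) K) := Units.ext (by simp [dia])

variable [CharP K 2] {ω : K} (hω : ω ^ 2 + ω + 1 = 0)
include hω

theorem relators_cl : ∀ r ∈ Cfsg.Spor.coxRelators Cfsg.Spor.Fi22.edges ∪ {r | r ∈ Cfsg.Spor.Fi22.extra},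
    FreeGroup.lift (fun x => cl (tE ω 1 (gi x) : GL (Fin 27) K)) r = 1 := by
  have hrel : ∀ (l : List (Fin 9)) (n : ℕ), isScal (relB l n) = true →
      (l.map fun k => cl (tE ω 1 k : GL (Fin 27) K)).prod ^ n = 1 := fun l n h => by
    obtain ⟨c, hc⟩ := rel_scalar hω h
    rw [← cl_eq_one_of_scalar hc, SubgroupClass.coe_pow, Subgroup.val_list_prod, map_pow,
      map_list_prod, List.map_map, List.map_map]
    rfl
  have hok := rel_ok
  simp only [relOK, Bool.and_eq_true, List.all_eq_true] at hok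
  rintro r (⟨x, -, y, -, rfl⟩ | hr)
  · have := hrel _ _ (hok.1 x (mem_nodes x) y (mem_nodes y))
    simpa using this
  · have h0 := hrel _ _ (hok.2 _ (show (([3, 2, 1, 3, 4, 5, 3, 7, 8] : List (Fin 9)), 10) ∈ extraL by simp [extraL]))
    have h1 := hrel _ _ (hok.2 _ (show (([0, 1, 2, 3, 4, 5, 7] : List (Fin 9)), 9) ∈ extraL by simp [extraL]))
    have h2 := hrel _ _ (hok.2 _ (show (([1, 2, 3, 4, 5, 6, 7] : List (Fin 9)), 9) ∈ extraL by simp [extraL]))
    simp only [Set.mem_ofPred_eq, Cfsg.Spor.Fi22.extra, List.mem_cons, List.not_mem_nil, or_false] at hr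
    rcases hr with rfl | rfl | rfl
    · simpa [gi, mul_assoc] using h0
    · simpa [gi, mul_assoc] using h1
    · simpa [gi, mul_assoc] using h2

/-- the projective representation -/
def proj : Cfsg.Spor.Fi22 →* PG K := PresentedGroup.toGroup (relators_cl hω)

theorem proj_of (x : Cfsg.Spor.Fi22.Gen) :
    proj hω (PresentedGroup.of x) = cl (tE ω 1 (gi x) : GL (Fin 27) K) :=
  PresentedGroup.toGroup.of (relators_cl hω)

theorem exists_lift {u : Kˣ} (hu3 : u ^ 3 = 1) (z : Cfsg.Spor.Fi22) :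
    ∃ a : Elem K, psi a = phi hω hu3 z ∧
      cl (a : GL (Fin 27) K) = cl (dia u) * proj hω z * (cl (dia u))⁻¹ := by
  have hz : z ∈ Subgroup.closure (Set.range (PresentedGroup.of
      (rels := Cfsg.Spor.coxRelators Cfsg.Spor.Fi22.edges ∪ {r | r ∈ Cfsg.Spor.Fi22.extra}))) := by
    rw [PresentedGroup.closure_range_of]; trivial
  induction hz using Subgroup.closure_induction with
  | mem z hz =>
    obtain ⟨x, rfl⟩ := hz
    refine ⟨tE ω u (gi x), (phi_of hω hu3 x).symm, ?_⟩
    rw [proj_of, tE_conj hu3, map_mul, map_mul, map_inv]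
  | one => exact ⟨1, by simp, by simp⟩
  | mul a b _ _ ha hb =>
    obtain ⟨a', ha1, ha2⟩ := ha
    obtain ⟨b', hb1, hb2⟩ := hb
    refine ⟨a' * b', by rw [map_mul, map_mul, ha1, hb1], ?_⟩
    rw [Subgroup.coe_mul, map_mul, ha2, hb2, map_mul]
    group
  | inv a _ ha =>
    obtain ⟨a', ha1, ha2⟩ := ha
    refine ⟨a'⁻¹, by rw [map_inv, map_inv, ha1], ?_⟩
    rw [Subgroup.coe_inv, map_inv, ha2, map_inv]
    group

theorem phi_injective {u : Kˣ} (hu3 : u ^ 3 = 1) : Function.Injective (phi hω hu3) := by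
  have hs : IsSimpleGroup Cfsg.Spor.Fi22 := Cfsg.Agent.H45.Fi22Top.isSimple
  rcases hs.eq_bot_or_eq_top_of_normal (phi hω hu3).ker inferInstance with h | h
  · exact (MonoidHom.ker_eq_bot_iff _).1 h
  exfalso
  have hd : psi (tE ω u 3) = 1 := by
    have := (MonoidHom.mem_ker (f := phi hω hu3)).1
      (h ▸ Subgroup.mem_top (PresentedGroup.of Cfsg.Spor.Fi22.Gen.d))
    rwa [phi_of] at this
  obtain ⟨c, hc⟩ := center_scalar (g := tE ω u 3) hd
  have h1 : cl (tE ω 1 3 : GL (Fin 27) K) = 1 := by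
    have := cl_eq_one_of_scalar hc
    rwa [tE_conj hu3, map_mul, map_mul, map_inv, conj_eq_one_iff] at this
  obtain ⟨d, hd⟩ := scalar_of_cl h1
  rw [tB_val hω] at hd
  have h2 := congrFun (congrFun hd 1) 22
  have hbit : ((tB 3).getD 1 (0, 0)).1.testBit 22 = true ∧
      ((tB 3).getD 1 (0, 0)).2.testBit 22 = false := by decide +kernel
  simp only [toMat, val, Matrix.of_apply, Matrix.smul_apply] at h2
  rw [show ((1 : Fin 27) : ℕ) = 1 from rfl, show ((22 : Fin 27) : ℕ) = 22 from rfl, hbit.1, hbit.2] at h2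
  simp [bit] at h2

omit hω in
theorem tE_sq (k : Fin 9) : tE ω (1 : Kˣ) k * tE ω 1 k = 1 := by
  have h : (xe 46 (1 : K)) * xe 46 1 = 1 := Subtype.ext (by
    show X 46 (1 : K) * X 46 1 = 1
    nth_rewrite 2 [← CharTwo.neg_eq (1 : K)]
    rw [← X_inv, mul_inv_cancel])
  calc _ = cE ω 1 k * (xe 46 (1 : K) * xe 46 1) * (cE ω 1 k)⁻¹ := by simp only [tE]; group
    _ = 1 := by rw [h]; group

/-- An element commuting up to scalars with `b, ..., i` is a scalar. -/
theorem scalar_of_proj_commute {g : GL (Fin 27) K}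
    (h : ∀ k : Fin 9, 1 ≤ k.val → cl g * cl (tE ω 1 k : GL (Fin 27) K) =
      cl (tE ω 1 k : GL (Fin 27) K) * cl g) : ∃ c : K, (g : M27) = c • (1 : M27) := by
  refine commutant hω fun k hk => ?_
  rw [← tB_val hω]
  set t : GL (Fin 27) K := (tE ω 1 k : GL (Fin 27) K) with ht
  have h1 : cl ((t * g)⁻¹ * (g * t)) = 1 := by
    rw [map_mul, map_inv, map_mul, map_mul, h k hk, inv_mul_cancel]
  obtain ⟨c, hc⟩ := scalar_of_cl h1
  have hgt : (g : M27) * (t : M27) = c • ((t : M27) * (g : M27)) := by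
    have : g * t = t * g * ((t * g)⁻¹ * (g * t)) := by group
    rw [← Units.val_mul, this, Units.val_mul, hc, Matrix.mul_smul, Matrix.mul_one, Units.val_mul]
  have htt : (t : M27) * (t : M27) = 1 := by
    rw [← Units.val_mul, ht, ← Subgroup.coe_mul, tE_sq]; rfl
  have hg : (g : M27) = (c * c) • (g : M27) := by
    calc (g : M27) = (g : M27) * (t : M27) * (t : M27) := by rw [Matrix.mul_assoc, htt, Matrix.mul_one]
      _ = c • ((t : M27) * ((g : M27) * (t : M27))) := by
        rw [hgt, Matrix.smul_mul, Matrix.mul_assoc, hgt]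
      _ = (c * c) • (g : M27) := by
        rw [hgt, Matrix.mul_smul, ← Matrix.mul_assoc, htt, Matrix.one_mul, smul_smul]
  have hcc : c * c = 1 := by
    by_contra hne
    have h0 : (g : M27) = 0 := by
      have h3 : (c * c - 1) • (g : M27) = 0 := by rw [sub_smul, one_smul, ← hg, sub_self]
      exact (smul_eq_zero.1 h3).resolve_left (sub_ne_zero.2 hne)
    have h4 := g.val_inv
    rw [h0, Matrix.zero_mul] at h4
    exact zero_ne_one h4
  have hc1 : c = 1 := by
    have h5 : (c - 1) * (c - 1) = 0 := by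
      linear_combination hcc + (1 - c) * (CharTwo.two_eq_zero (R := K))
    exact sub_eq_zero.1 (mul_self_eq_zero.1 h5)
  rw [hgt, hc1, one_smul]

section Twists

variable {P : Type} [Group P] (f : P →* Cfsg.Spor.Fi22)

theorem eq_of_conj [Fintype K] (hK : Fintype.card K = 4) (hf : Function.Injective f) [Finite P]
    (hgen : ∀ k : Fin 9, 1 ≤ k.val → ∃ x : Cfsg.Spor.Fi22.Gen, gi x = k ∧
      PresentedGroup.of x ∈ f.range)
    (hout : ∀ α : P ≃* P, ∃ h, ∀ z, α (α z) = h * z * h⁻¹)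
    {u w : Kˣ} (hu3 : u ^ 3 = 1) (hw3 : w ^ 3 = 1) (x : Elem K)
    (hx : ∀ z, psi x * phi hω hu3 (f z) * (psi x)⁻¹ ∈ ((phi hω hw3).comp f).range) : u = w := by
  choose a ha using hx
  have hinj : ∀ {v : Kˣ} (hv : v ^ 3 = 1), Function.Injective ((phi hω hv).comp f) :=
    fun hv => (phi_injective hω hv).comp hf
  let α₀ : P →* P :=
    { toFun := a
      map_one' := hinj hw3 (by rw [ha]; simp)
      map_mul' := fun p q => hinj hw3 (by
        rw [ha, map_mul ((phi hω hw3).comp f), ha, ha, map_mul f, map_mul]; group) }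
  have hα₀ : Function.Injective α₀ := fun p q hpq => hinj hu3 (by
    have h1 : psi x * phi hω hu3 (f p) * (psi x)⁻¹ = psi x * phi hω hu3 (f q) * (psi x)⁻¹ := by
      rw [← ha p, ← ha q]; exact congrArg _ hpq
    exact mul_left_cancel (mul_right_cancel h1))
  let α : P ≃* P := MulEquiv.ofBijective α₀ (Finite.injective_iff_bijective.1 hα₀)
  obtain ⟨h, hh⟩ := hout α
  set y : GL (Fin 27) K := (dia w)⁻¹ * (x : GL (Fin 27) K) * dia u with hy
  have hY : ∀ z, cl y * proj hω (f z) * (cl y)⁻¹ = proj hω (f (α z)) := by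
    intro z
    obtain ⟨au, hau1, hau2⟩ := exists_lift hω hu3 (f z)
    obtain ⟨aw, haw1, haw2⟩ := exists_lift hω hw3 (f (α z))
    have hk : psi (aw⁻¹ * (x * au * x⁻¹)) = 1 := by
      rw [map_mul, map_inv, map_mul, map_mul, map_inv, hau1, haw1, inv_mul_eq_one]
      exact ha z
    obtain ⟨c, hc⟩ := center_scalar (g := aw⁻¹ * (x * au * x⁻¹)) hk
    have h1 := cl_eq_one_of_scalar hc
    rw [Subgroup.coe_mul, Subgroup.coe_inv, Subgroup.coe_mul, Subgroup.coe_mul, Subgroup.coe_inv,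
      map_mul, map_inv, map_mul, map_mul, map_inv, inv_mul_eq_one, hau2, haw2] at h1
    rw [hy, map_mul, map_mul, map_inv]
    calc _ = (cl (dia w))⁻¹ * (cl (x : GL (Fin 27) K) * (cl (dia u) * proj hω (f z) * (cl (dia u))⁻¹)
          * (cl (x : GL (Fin 27) K))⁻¹) * cl (dia w) := by group
      _ = proj hω (f (α z)) := by rw [← h1]; group
  obtain ⟨b, -, hb⟩ := exists_lift hω (one_pow 3 : (1 : Kˣ) ^ 3 = 1) (f h)
  rw [dia_one, map_one, one_mul, inv_one, mul_one] at hb
  set g0 : GL (Fin 27) K := (b : GL (Fin 27) K)⁻¹ * (y * y) with hg0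
  have hcomm : ∀ k : Fin 9, 1 ≤ k.val → cl g0 * cl (tE ω 1 k : GL (Fin 27) K) =
      cl (tE ω 1 k : GL (Fin 27) K) * cl g0 := by
    intro k hk
    obtain ⟨n, rfl, p, hp⟩ := hgen k hk
    rw [← proj_of hω n, ← hp, ← mul_inv_eq_iff_eq_mul]
    calc cl g0 * proj hω (f p) * (cl g0)⁻¹
        = (cl (b : GL (Fin 27) K))⁻¹ * (cl y * (cl y * proj hω (f p) * (cl y)⁻¹) * (cl y)⁻¹) *
            cl (b : GL (Fin 27) K) := by rw [hg0, map_mul, map_mul, map_inv]; group
      _ = proj hω (f p) := by rw [hY, hY, hh, hb, map_mul, map_mul, map_mul, map_mul, map_inv, map_inv]; group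
  obtain ⟨c, hc⟩ := scalar_of_proj_commute hω hcomm
  have hyy : ((y * y : GL (Fin 27) K) : M27) = c • ((b : GL (Fin 27) K) : M27) := by
    rw [show y * y = (b : GL (Fin 27) K) * g0 by rw [hg0]; group, Units.val_mul, hc,
      Matrix.mul_smul, Matrix.mul_one]
  have hc0 : c ≠ 0 := by
    intro h0
    rw [h0, zero_smul] at hc
    have h4 := g0.val_inv
    rw [hc, Matrix.zero_mul] at h4
    exact zero_ne_one h4
  have hT : ∀ v, T (act y v) = (w : K)⁻¹ * u * T v := fun v => by
    rw [hy, act_mul, act_mul, T_dia_inv hw3, mem_Stab.1 (Elem_le x.2), T_dia hu3, mul_assoc]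
  have h2 : ((w : K)⁻¹ * u) * ((w : K)⁻¹ * u) = 1 := by
    have h3 : T (act (y * y) (ev : Fin 27 → K)) = T (c • act (b : GL (Fin 27) K) ev) := by
      rw [act, hyy, Matrix.smul_mulVec, act]
    rw [act_mul, hT, hT, T_smul, mem_Stab.1 (Elem_le b.2), T_ev, mul_one, mul_one] at h3
    rw [h3]
    simpa [hK] using FiniteField.pow_card_sub_one_eq_one c hc0
  have h1 : (w : K)⁻¹ * u = 1 := by
    have h5 : ((w : K)⁻¹ * u - 1) * ((w : K)⁻¹ * u - 1) = 0 := by
      linear_combination h2 + (1 - (w : K)⁻¹ * u) * (CharTwo.two_eq_zero (R := K))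
    exact sub_eq_zero.1 (mul_self_eq_zero.1 h5)
  exact Units.ext ((inv_mul_eq_one₀ w.ne_zero).1 h1).symm

omit hω in
theorem three [Fintype K] (hK : Fintype.card K = 4) (hf : Function.Injective f) [Finite P]
    (hgen : ∀ k : Fin 9, 1 ≤ k.val → ∃ x : Cfsg.Spor.Fi22.Gen, gi x = k ∧
      PresentedGroup.of x ∈ f.range)
    (hout : ∀ α : P ≃* P, ∃ h, ∀ z, α (α z) = h * z * h⁻¹) :
    ∃ H : Fin 3 → Subgroup (twistedE6 K 2),
      (∀ i, Nonempty (↥(H i) ≃* P)) ∧
      (∀ i j, i ≠ j → ∀ g : twistedE6 K 2, (H i).map (MulAut.conj g).toMonoidHom ≠ H j) := by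
  classical
  obtain ⟨v, hv⟩ := IsCyclic.exists_generator (α := Kˣ)
  have hord : orderOf v = 3 := by
    rw [orderOf_eq_card_of_forall_mem_zpowers hv, Nat.card_eq_fintype_card, Fintype.card_units, hK]
  have hv3 : v ^ 3 = 1 := (congrArg (v ^ ·) hord).symm.trans (pow_orderOf_eq_one v)
  have hω : (v : K) ^ 2 + v + 1 = 0 := by
    have hne : (v : K) - 1 ≠ 0 := sub_ne_zero.2 fun h => by
      rw [show v = 1 from Units.ext h, orderOf_one] at hord
      exact absurd hord (by decide)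
    refine (mul_eq_zero.1 ?_).resolve_left hne
    have h3 : (v : K) ^ 3 = 1 := by rw [← Units.val_pow_eq_pow_val, hv3, Units.val_one]
    linear_combination h3
  have h3 : ∀ i : Fin 3, (v ^ i.val) ^ 3 = 1 := fun i => by
    rw [← pow_mul, mul_comm, pow_mul, hv3, one_pow]
  have hle : ∀ i : Fin 3, ((phi hω (h3 i)).comp f).range ≤ twistedE6 K 2 := fun i => by
    rintro _ ⟨p, rfl⟩
    exact phi_range_le hω (h3 i) ⟨f p, rfl⟩
  refine ⟨fun i => ((phi hω (h3 i)).comp f).range.subgroupOf (twistedE6 K 2), fun i => ?_, ?_⟩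
  · exact ⟨(Subgroup.subgroupOfEquivOfLe (hle i)).trans
      (MonoidHom.ofInjective (f := (phi hω (h3 i)).comp f)
        ((phi_injective hω (h3 i)).comp hf)).symm⟩
  · intro i j hij g h
    obtain ⟨x, hx⟩ := twisted_le_range g.2
    refine hij (Fin.ext (pow_injOn_Iio_orderOf (x := v) (by simp [hord]) (by simp [hord])
      (eq_of_conj hω f hK hf hgen hout (h3 i) (h3 j) x fun z => ?_)))
    have hz : phi hω (h3 i) (f z) ∈ ((phi hω (h3 i)).comp f).range := ⟨z, rfl⟩
    have hm : MulAut.conj g ⟨_, hle i hz⟩ ∈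
        ((phi hω (h3 j)).comp f).range.subgroupOf (twistedE6 K 2) :=
      (SetLike.ext_iff.1 h _).1 (Subgroup.mem_map_of_mem _ (Subgroup.mem_subgroupOf.2 hz))
    rw [Subgroup.mem_subgroupOf] at hm
    rw [hx]
    simpa using hm

end Twists

end Cfsg.Agent.H99.E6.Fi22
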