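import Cfsg.Agent.H99.E6.FourTwo.Three
import Cfsg.Agent.H99.E6.Fi22.Bits
import Cfsg.Prelude.Def_Spor_Fi22

/-! Nine root involutions of `²E₆(2)` satisfying the defining relations of `Fi₂₂`, and the twists of
the resulting homomorphism by diagonal similitudes. -/

set_option autoImplicit false
set_option maxHeartbeats 1000000
set_option maxRecDepth 100000
set_option Elab.async false

namespace Cfsg.Agent.H99.E6.Fi22

open Matrix Cfsg.Lie Cfsg.Agent.H99.E6.FourTwo

/-- the words of the twelve generators: root and coefficient bits -/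
def genW : List (List (Fin 72 × Bool × Bool)) :=
  [[(46, true, false)], [(25, true, false)], [(39, true, false)], [(32, true, false)],
    [(56, true, false), (36, true, false)], [(56, false, true), (36, true, true)],
    [(15, true, false), (35, true, false)], [(15, false, true), (35, true, true)],
    [(42, true, false), (37, true, false)], [(42, false, true), (37, true, true)],
    [(29, true, false), (34, true, false)], [(29, false, true), (34, true, true)]]

/-- a generator word by number -/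
def gwF (j : ℕ) : List (Fin 72 × Bool × Bool) := genW.getD j []

/-- the matrix of a word -/
def wordB (l : List (Fin 72 × Bool × Bool)) : BM :=
  prodB (l.map fun p => xBM (rootM p.1.val) p.2.1 p.2.2)

/-- the conjugating word of an involution -/
def cw (k : Fin 9) : List ℕ := conjWords.getD k.val []

/-- the matrix of a conjugating word -/
def cwB (k : Fin 9) : BM := prodB ((cw k).map fun j => wordB (gwF j))

/-- the matrix of an involution -/
def tB (k : Fin 9) : BM := invol.getD k.val []

/-- the matrix of the basic root element -/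
def x0B : BM := xBM (rootM (46 : Fin 72).val) true false

theorem invol_ok0 : (tB 0).length = 27 ∧ mulB (cwB 0) x0B = mulB (tB 0) (cwB 0) := by
  decide +kernel

theorem invol_ok1 : (tB 1).length = 27 ∧ mulB (cwB 1) x0B = mulB (tB 1) (cwB 1) := by
  decide +kernel

theorem invol_ok2 : (tB 2).length = 27 ∧ mulB (cwB 2) x0B = mulB (tB 2) (cwB 2) := by
  decide +kernel

theorem invol_ok3 : (tB 3).length = 27 ∧ mulB (cwB 3) x0B = mulB (tB 3) (cwB 3) := by
  decide +kernel

theorem invol_ok4 : (tB 4).length = 27 ∧ mulB (cwB 4) x0B = mulB (tB 4) (cwB 4) := by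
  decide +kernel

theorem invol_ok5 : (tB 5).length = 27 ∧ mulB (cwB 5) x0B = mulB (tB 5) (cwB 5) := by
  decide +kernel

theorem invol_ok6 : (tB 6).length = 27 ∧ mulB (cwB 6) x0B = mulB (tB 6) (cwB 6) := by
  decide +kernel

theorem invol_ok7 : (tB 7).length = 27 ∧ mulB (cwB 7) x0B = mulB (tB 7) (cwB 7) := by
  decide +kernel

theorem invol_ok8 : (tB 8).length = 27 ∧ mulB (cwB 8) x0B = mulB (tB 8) (cwB 8) := by
  decide +kernel

theorem invol_ok (k : Fin 9) : (tB k).length = 27 ∧ mulB (cwB k) x0B = mulB (tB k) (cwB k) := by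
  fin_cases k
  exacts [invol_ok0, invol_ok1, invol_ok2, invol_ok3, invol_ok4, invol_ok5, invol_ok6, invol_ok7, invol_ok8]

theorem gw_roots : ∀ l ∈ genW, ∀ p ∈ l, ∀ e ∈ rootM p.1.val,
    e.2.2 % 2 = 1 ∧ dd e.1 % 3 = (kexp p.1 + dd e.2.1) % 3 := by decide +kernel

theorem x0_roots : ∀ e ∈ rootM (46 : Fin 72).val,
    e.2.2 % 2 = 1 ∧ dd e.1 % 3 = (kexp 46 + dd e.2.1) % 3 := by decide +kernel

theorem gwF_roots (j : ℕ) : ∀ p ∈ gwF j, ∀ e ∈ rootM p.1.val,
    e.2.2 % 2 = 1 ∧ dd e.1 % 3 = (kexp p.1 + dd e.2.1) % 3 := by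
  intro p hp
  by_cases hj : j < genW.length
  · rw [gwF, List.getD_eq_getElem _ _ hj] at hp
    exact gw_roots _ (List.getElem_mem hj) p hp
  · rw [gwF, List.getD_eq_default _ _ (by omega)] at hp
    simp at hp

variable {K : Type*} [Field K]

local notation "M27" => Matrix (Fin 27) (Fin 27) K

/-- a word at parameter `u`, with coefficients scaled -/
def wE (ω : K) (u : Kˣ) (l : List (Fin 72 × Bool × Bool)) : Elem K :=
  we (l.map fun p => (p.1, (u : K) ^ kexp p.1 * cval ω p.2.1 p.2.2))

/-- a conjugating word at parameter `u` -/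
def cE (ω : K) (u : Kˣ) (k : Fin 9) : Elem K := ((cw k).map fun j => wE ω u (gwF j)).prod

/-- an involution at parameter `u` -/
def tE (ω : K) (u : Kˣ) (k : Fin 9) : Elem K := cE ω u k * xe 46 1 * (cE ω u k)⁻¹

theorem dia_X_gen {u : Kˣ} (hu3 : u ^ 3 = 1) (r : Fin 72) (t : K)
    (hr : ∀ e ∈ rootM r.val, dd e.1 % 3 = (kexp r + dd e.2.1) % 3) :
    dia u * X r t * (dia u)⁻¹ = (X r ((u : K) ^ kexp r * t) : GL (Fin 27) K) := by
  rw [mul_inv_eq_iff_eq_mul]
  refine Units.ext ?_
  rw [Units.val_mul, Units.val_mul, X_val, X_val, Matrix.mul_add, Matrix.add_mul, Matrix.mul_one,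
    Matrix.one_mul, Matrix.mul_smul, Matrix.smul_mul, Mr, dia_toM hu3 _ _ hr, mul_comm _ t,
    ← smul_smul, Matrix.smul_mul]

theorem wE_conj {u : Kˣ} (hu3 : u ^ 3 = 1) (ω : K) : ∀ l : List (Fin 72 × Bool × Bool),
    (∀ p ∈ l, ∀ e ∈ rootM p.1.val, dd e.1 % 3 = (kexp p.1 + dd e.2.1) % 3) →
      ((wE ω u l : Elem K) : GL (Fin 27) K) =
        dia u * ((wE ω 1 l : Elem K) : GL (Fin 27) K) * (dia u)⁻¹
  | [], _ => by simp [wE, we]
  | p :: l, h => by
    have hs : ∀ v : Kˣ, wE ω v (p :: l) =
        xe p.1 ((v : K) ^ kexp p.1 * cval ω p.2.1 p.2.2) * wE ω v l := fun v => by simp [wE, we]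
    rw [hs, hs, Subgroup.coe_mul, Subgroup.coe_mul,
      wE_conj hu3 ω l fun q hq => h q (List.mem_cons_of_mem _ hq)]
    show X _ _ * _ = _ * (X _ _ * _) * _
    rw [← dia_X_gen hu3 p.1 _ (h p List.mem_cons_self), Units.val_one, one_pow, one_mul]
    group

theorem cE_conj {u : Kˣ} (hu3 : u ^ 3 = 1) (ω : K) (k : Fin 9) :
    ((cE ω u k : Elem K) : GL (Fin 27) K) =
      dia u * ((cE ω 1 k : Elem K) : GL (Fin 27) K) * (dia u)⁻¹ := by
  unfold cE
  induction cw k with
  | nil => simp
  | cons j l ih =>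
    rw [List.map_cons, List.prod_cons, List.map_cons, List.prod_cons, Subgroup.coe_mul,
      Subgroup.coe_mul, ih, wE_conj hu3 ω _ fun p hp e he => (gwF_roots j p hp e he).2]
    group

theorem tE_conj {u : Kˣ} (hu3 : u ^ 3 = 1) (ω : K) (k : Fin 9) :
    ((tE ω u k : Elem K) : GL (Fin 27) K) =
      dia u * ((tE ω 1 k : Elem K) : GL (Fin 27) K) * (dia u)⁻¹ := by
  have h46 : (X 46 (1 : K) : GL (Fin 27) K) = dia u * X 46 1 * (dia u)⁻¹ := by
    rw [dia_X_gen hu3 46 1 fun e he => (x0_roots e he).2,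
      show kexp (46 : Fin 72) = 0 by decide, pow_zero, one_mul]
  simp only [tE, Subgroup.coe_mul, Subgroup.coe_inv, xe, cE_conj hu3]
  conv_lhs => rw [h46]
  group

theorem length_wordB (l : List (Fin 72 × Bool × Bool)) : (wordB l).length = 27 :=
  length_prodB _ fun A hA => by
    obtain ⟨p, -, rfl⟩ := List.mem_map.1 hA
    exact length_xBM _ _ _

theorem length_cwB (k : Fin 9) : (cwB k).length = 27 :=
  length_prodB _ fun A hA => by
    obtain ⟨j, -, rfl⟩ := List.mem_map.1 hA
    exact length_wordB _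

section Values

variable [CharP K 2] {ω : K} (hω : ω ^ 2 + ω + 1 = 0)
include hω

theorem wordB_val (j : ℕ) :
    (((wE ω 1 (gwF j) : Elem K) : GL (Fin 27) K) : M27) = toMat ω (wordB (gwF j)) := by
  rw [wordB, toMat_prodB hω _ (fun A hA => by
    obtain ⟨p, -, rfl⟩ := List.mem_map.1 hA
    exact length_xBM _ _ _), wE, we, Subgroup.val_list_prod, List.map_map, List.map_map,
    List.map_map, ← Units.coeHom_apply, map_list_prod, List.map_map]
  refine congrArg List.prod (List.map_congr_left fun p hp => ?_)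
  simp only [Function.comp_apply, Units.coeHom_apply, xe, X_val, Units.val_one, one_pow, one_mul,
    Mr, toMat_xBM hω _ fun e he => (gwF_roots j p hp e he).1]

theorem cwB_val (k : Fin 9) :
    (((cE ω 1 k : Elem K) : GL (Fin 27) K) : M27) = toMat ω (cwB k) := by
  rw [cwB, toMat_prodB hω _ (fun A hA => by
    obtain ⟨j, -, rfl⟩ := List.mem_map.1 hA
    exact length_wordB _), cE, Subgroup.val_list_prod, List.map_map, List.map_map,
    ← Units.coeHom_apply, map_list_prod, List.map_map]
  refine congrArg List.prod (List.map_congr_left fun j _ => ?_)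
  exact wordB_val hω j

theorem tB_val (k : Fin 9) :
    (((tE ω 1 k : Elem K) : GL (Fin 27) K) : M27) = toMat ω (tB k) := by
  obtain ⟨hl, he⟩ := invol_ok k
  have h1 := congrArg (toMat ω) he
  have hX : toMat ω x0B = ((X 46 (1 : K) : GL (Fin 27) K) : M27) := by
    rw [x0B, toMat_xBM hω _ fun e he => (x0_roots e he).1, X_val, Mr]
    simp [cval, bit]
  rw [toMat_mulB hω (length_cwB k) (show x0B.length = 27 from length_xBM _ _ _), toMat_mulB hω hl (length_cwB k), hX,
    ← cwB_val hω] at h1
  simp only [tE, Subgroup.coe_mul, Subgroup.coe_inv, xe, Units.val_mul]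
  rw [h1, Matrix.mul_assoc, ← Units.val_mul, mul_inv_cancel, Units.val_one, Matrix.mul_one]

end Values

/-- the number of a node -/
def gi : Cfsg.Spor.Fi22.Gen → Fin 9
  | .a => 0 | .b => 1 | .c => 2 | .d => 3 | .e => 4 | .f => 5 | .g => 6 | .h => 7 | .i => 8

/-- the nodes -/
def nodes : List Cfsg.Spor.Fi22.Gen := [.a, .b, .c, .d, .e, .f, .g, .h, .i]

theorem mem_nodes (x : Cfsg.Spor.Fi22.Gen) : x ∈ nodes := by cases x <;> decide

/-- the further relations, as lists -/
def extraL : List (List (Fin 9) × ℕ) :=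
  [([3, 2, 1, 3, 4, 5, 3, 7, 8], 10), ([0, 1, 2, 3, 4, 5, 7], 9), ([1, 2, 3, 4, 5, 6, 7], 9)]

/-- scalar test -/
def isScal (A : BM) : Bool :=
  decide (A = scalB true false) || decide (A = scalB false true) || decide (A = scalB true true)

/-- the matrix of a relation -/
def relB (l : List (Fin 9)) (n : ℕ) : BM :=
  let W := prodB (l.map tB)
  prodB (List.replicate n W)

/-- all relations hold up to scalars -/
def relOK : Bool :=
  (nodes.all fun x => nodes.all fun y =>
    isScal (relB [gi x, gi y] (Cfsg.Spor.coxLabel Cfsg.Spor.Fi22.edges x y))) &&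
  extraL.all fun q => isScal (relB q.1 q.2)

/-- the Coxeter relations at one node -/
def relAt (x : Cfsg.Spor.Fi22.Gen) : Bool :=
  nodes.all fun y => isScal (relB [gi x, gi y] (Cfsg.Spor.coxLabel Cfsg.Spor.Fi22.edges x y))

theorem relAt_a : relAt .a = true := by decide +kernel

theorem relAt_b : relAt .b = true := by decide +kernel

theorem relAt_c : relAt .c = true := by decide +kernel

theorem relAt_d : relAt .d = true := by decide +kernel

theorem relAt_e : relAt .e = true := by decide +kernel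

theorem relAt_f : relAt .f = true := by decide +kernel

theorem relAt_g : relAt .g = true := by decide +kernel

theorem relAt_h : relAt .h = true := by decide +kernel

theorem relAt_i : relAt .i = true := by decide +kernel

theorem relEx0 : isScal (relB (extraL.getD 0 ([], 0)).1 (extraL.getD 0 ([], 0)).2) = true := by
  decide +kernel

theorem relEx1 : isScal (relB (extraL.getD 1 ([], 0)).1 (extraL.getD 1 ([], 0)).2) = true := by
  decide +kernel

theorem relEx2 : isScal (relB (extraL.getD 2 ([], 0)).1 (extraL.getD 2 ([], 0)).2) = true := by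
  decide +kernel

theorem rel_ok : relOK = true := by
  show (nodes.all relAt && extraL.all fun q => isScal (relB q.1 q.2)) = true
  have h0 := relEx0
  have h1 := relEx1
  have h2 := relEx2
  simp only [extraL, List.getD_cons_zero, List.getD_cons_succ] at h0 h1 h2
  simp only [nodes, extraL, List.all_cons, List.all_nil, Bool.and_eq_true, h0, h1, h2, relAt_a, relAt_b, relAt_c, relAt_d, relAt_e, relAt_f, relAt_g, relAt_h, relAt_i, and_self]

theorem rel_scalar [CharP K 2] {ω : K} (hω : ω ^ 2 + ω + 1 = 0) {l : List (Fin 9)} {n : ℕ}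
    (h : isScal (relB l n) = true) :
    ∃ c : K, ((((l.map fun k => (tE ω 1 k)).prod ^ n : Elem K) : GL (Fin 27) K) : M27) =
      c • (1 : M27) := by
  have hl : ∀ A ∈ l.map tB, A.length = 27 := fun A hA => by
    obtain ⟨k, -, rfl⟩ := List.mem_map.1 hA
    exact (invol_ok k).1
  have hv : toMat ω (relB l n) =
      ((((l.map fun k => (tE ω 1 k)).prod ^ n : Elem K) : GL (Fin 27) K) : M27) := by
    rw [relB, toMat_prodB hω _ (fun A hA => by
      rw [List.eq_of_mem_replicate hA]; exact length_prodB _ hl), List.map_replicate,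
      List.prod_replicate, toMat_prodB hω _ hl, SubgroupClass.coe_pow, Units.val_pow_eq_pow_val,
      Subgroup.val_list_prod, List.map_map, List.map_map, ← Units.coeHom_apply, map_list_prod,
      List.map_map]
    congr 2
    exact List.map_congr_left fun k _ => (tB_val hω k).symm
  simp only [isScal, Bool.or_eq_true, decide_eq_true_eq] at h
  rcases h with (h | h) | h <;>
    exact ⟨_, by rw [← hv, h, toMat_scalB hω]⟩

theorem psi_eq_one_of_scalar {g : Elem K} {c : K} (hc : (g.1 : M27) = c • (1 : M27)) :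
    psi g = 1 := by
  rw [← MonoidHom.mem_ker, psi_ker, Subgroup.mem_center_iff]
  intro x
  refine Subtype.ext (Units.ext ?_)
  show (x.1 : M27) * (g.1 : M27) = (g.1 : M27) * (x.1 : M27)
  rw [hc]; simp

/-- the image of a node -/
noncomputable def img (ω : K) (u : Kˣ) (x : Cfsg.Spor.Fi22.Gen) :
    GL chevE6.Idx K := psi (tE ω u (gi x))

theorem rel_psi [CharP K 2] {ω : K} (hω : ω ^ 2 + ω + 1 = 0) {u : Kˣ} (hu3 : u ^ 3 = 1)
    {l : List (Fin 9)} {n : ℕ} (h : isScal (relB l n) = true) :
    (l.map fun k => psi (tE ω u k)).prod ^ n = 1 := by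
  have e' : (l.map fun k => psi (tE ω u k)).prod ^ n =
      psi ((l.map fun k => tE ω u k).prod ^ n) := by
    rw [map_pow, map_list_prod, List.map_map]; rfl
  rw [e']
  obtain ⟨c, hc⟩ := rel_scalar hω h
  refine psi_eq_one_of_scalar (c := c) ?_
  have hconj : (((l.map fun k => tE ω u k).prod ^ n : Elem K) : GL (Fin 27) K) =
      MulAut.conj (dia u) (((l.map fun k => tE ω 1 k).prod ^ n : Elem K) : GL (Fin 27) K) := by
    rw [SubgroupClass.coe_pow, SubgroupClass.coe_pow, map_pow, Subgroup.val_list_prod,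
      Subgroup.val_list_prod, map_list_prod, List.map_map, List.map_map, List.map_map]
    congr 2
    exact List.map_congr_left fun k _ => tE_conj hu3 ω k
  rw [hconj, MulAut.conj_apply, Units.val_mul, Units.val_mul, hc, Matrix.mul_smul, Matrix.mul_one,
    Matrix.smul_mul, ← Units.val_mul, mul_inv_cancel, Units.val_one]

theorem relators [CharP K 2] {ω : K} (hω : ω ^ 2 + ω + 1 = 0) {u : Kˣ} (hu3 : u ^ 3 = 1) :
    ∀ r ∈ Cfsg.Spor.coxRelators Cfsg.Spor.Fi22.edges ∪ {r | r ∈ Cfsg.Spor.Fi22.extra},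
      FreeGroup.lift (img ω u) r = 1 := by
  have hok := rel_ok
  simp only [relOK, Bool.and_eq_true, List.all_eq_true] at hok
  rintro r (⟨x, -, y, -, rfl⟩ | hr)
  · have := rel_psi hω hu3 (hok.1 x (mem_nodes x) y (mem_nodes y))
    simpa [img] using this
  · have h0 := rel_psi hω hu3 (hok.2 _ (show (([3, 2, 1, 3, 4, 5, 3, 7, 8] : List (Fin 9)), 10) ∈ extraL by simp [extraL]))
    have h1 := rel_psi hω hu3 (hok.2 _ (show (([0, 1, 2, 3, 4, 5, 7] : List (Fin 9)), 9) ∈ extraL by simp [extraL]))
    have h2 := rel_psi hω hu3 (hok.2 _ (show (([1, 2, 3, 4, 5, 6, 7] : List (Fin 9)), 9) ∈ extraL by simp [extraL]))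
    simp only [Set.mem_ofPred_eq, Cfsg.Spor.Fi22.extra, List.mem_cons, List.not_mem_nil, or_false] at hr
    rcases hr with rfl | rfl | rfl
    · simpa [img, gi, mul_assoc] using h0
    · simpa [img, gi, mul_assoc] using h1
    · simpa [img, gi, mul_assoc] using h2

/-- the homomorphism -/
noncomputable def phi [CharP K 2] {ω : K} (hω : ω ^ 2 + ω + 1 = 0) {u : Kˣ} (hu3 : u ^ 3 = 1) :
    Cfsg.Spor.Fi22 →* GL chevE6.Idx K := PresentedGroup.toGroup (relators hω hu3)

theorem phi_of [CharP K 2] {ω : K} (hω : ω ^ 2 + ω + 1 = 0) {u : Kˣ} (hu3 : u ^ 3 = 1)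
    (x : Cfsg.Spor.Fi22.Gen) : phi hω hu3 (PresentedGroup.of x) = psi (tE ω u (gi x)) :=
  PresentedGroup.toGroup.of (relators hω hu3)

theorem two_cases {u : Kˣ} (hu3 : u ^ 3 = 1) : ((u : K) ^ 2) ^ 2 = u := by
  rw [← pow_mul, show 2 * 2 = 3 + 1 from rfl, pow_succ, ← Units.val_pow_eq_pow_val, hu3]; simp

theorem gen_mem [CharP K 2] {ω : K} (hω : ω ^ 2 + ω + 1 = 0) {u : Kˣ} (hu3 : u ^ 3 = 1) (j : ℕ) :
    psi (wE ω u (gwF j)) ∈ twistedE6 K 2 := by
  by_cases hj : j < genW.length
  swap
  · rw [gwF, List.getD_eq_default _ _ (by omega)]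
    simp [wE, we]
  have pair : ∀ (r s : Fin 72) (α β γ δ : Bool), kexp r * 2 % 3 = kexp s % 3 →
      (cval ω α β) ^ 2 = cval ω γ δ →
      (r.val, s.val) ∈ [(e6p1, e6p6), (e6m1, e6m6), (e6p3, e6p5), (e6m3, e6m5)] →
        psi (wE ω u [(r, α, β), (s, γ, δ)]) ∈ twistedE6 K 2 := by
    intro r s α β γ δ hk hc hr
    refine Subgroup.subset_closure ⟨[(r.val, (u : K) ^ kexp r * cval ω α β),
      (s.val, ((u : K) ^ kexp r * cval ω α β) ^ 2)], Or.inr ⟨_, _, hr, rfl⟩, ?_⟩
    have e' : (u : K) ^ kexp s * cval ω γ δ = ((u : K) ^ kexp r * cval ω α β) ^ 2 := by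
      rw [mul_pow, hc, ← pow_mul, pow_mod3 hu3 hk.symm]
    simp only [wE, List.map_cons, List.map_nil, psi_we, e']
    exact Chevalley.Cert.coe_wU _ _ _
  have single : ∀ r : Fin 72, kexp r = 0 → r.val ∈ [e6p2, e6m2, e6p4, e6m4] →
      psi (wE ω u [(r, true, false)]) ∈ twistedE6 K 2 := by
    intro r hk hr
    refine Subgroup.subset_closure ⟨[(r.val, (1 : K))], Or.inl ⟨1, one_pow 2, r.val, hr, rfl⟩, ?_⟩
    simp only [wE, List.map_cons, List.map_nil, psi_we, hk, pow_zero, one_mul,
      show cval ω true false = 1 by simp [cval, bit]]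
    exact Chevalley.Cert.coe_wU _ _ _
  have h1 : (cval ω true false) ^ 2 = cval ω true false := by simp [cval, bit]
  have h2 : (cval ω false true) ^ 2 = cval ω true true := by
    simp only [cval, bit, if_true, if_false, Bool.false_eq_true, zero_add, one_mul]
    linear_combination hω - (ω + 1) * CharTwo.two_eq_zero (R := K)
  change j < 12 at hj
  interval_cases j
  · exact single 46 (by decide) (by decide)
  · exact single 25 (by decide) (by decide)
  · exact single 39 (by decide) (by decide)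
  · exact single 32 (by decide) (by decide)
  · exact pair 56 36 _ _ _ _ (by decide) h1 (by decide)
  · exact pair 56 36 _ _ _ _ (by decide) h2 (by decide)
  · exact pair 15 35 _ _ _ _ (by decide) h1 (by decide)
  · exact pair 15 35 _ _ _ _ (by decide) h2 (by decide)
  · exact pair 42 37 _ _ _ _ (by decide) h1 (by decide)
  · exact pair 42 37 _ _ _ _ (by decide) h2 (by decide)
  · exact pair 29 34 _ _ _ _ (by decide) h1 (by decide)
  · exact pair 29 34 _ _ _ _ (by decide) h2 (by decide)

theorem phi_range_le [CharP K 2] {ω : K} (hω : ω ^ 2 + ω + 1 = 0) {u : Kˣ} (hu3 : u ^ 3 = 1) :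
    (phi hω hu3).range ≤ twistedE6 K 2 := by
  rw [MonoidHom.range_eq_map, ← PresentedGroup.closure_range_of, MonoidHom.map_closure,
    Subgroup.closure_le]
  rintro _ ⟨_, ⟨x, rfl⟩, rfl⟩
  rw [SetLike.mem_coe, phi_of, tE, map_mul, map_mul, map_inv]
  have h46 : psi (xe 46 (1 : K)) ∈ twistedE6 K 2 := by
    have := gen_mem (K := K) hω hu3 0
    simpa [gwF, genW, wE, we, cval, bit, show kexp (46 : Fin 72) = 0 by decide] using this
  have hc : psi (cE ω u (gi x)) ∈ twistedE6 K 2 := by
    rw [cE, map_list_prod]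
    refine list_prod_mem fun y hy => ?_
    obtain ⟨a, ha, rfl⟩ := List.mem_map.1 hy
    obtain ⟨j, -, rfl⟩ := List.mem_map.1 ha
    exact gen_mem hω hu3 j
  exact mul_mem (mul_mem hc h46) (inv_mem hc)

end Cfsg.Agent.H99.E6.Fi22
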