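import Cfsg.Agent.H99.E6.Fi22.Embed

/-! The commutant of the involutions `b, ..., i` consists of scalars. -/

set_option autoImplicit false
set_option maxHeartbeats 1000000
set_option maxRecDepth 100000

namespace Cfsg.Agent.H99.E6.Fi22

open Matrix Cfsg.Lie Cfsg.Agent.H99.E6.FourTwo

/-- the involutions with a common fixed line -/
def fixKs : List (Fin 9) := [1, 2, 3, 4, 5, 6]

/-- the matrix `v ↦ v_p • fixVec` -/
def outerB : BM := fixVec.map fun r => scl (r.1.testBit 0) (r.2.testBit 0) (2 ^ fixPos, 0)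

/-- the certificate of the fixed line -/
def certB (l : List (Fin 9 × BM)) : BM :=
  l.foldr (fun q acc => addB (mulB q.2 (addB (tB q.1) oneB)) acc) outerB

theorem cert_ok : certB (fixKs.zip fixCert) = oneB ∧ outerB.length = 27 ∧
    (∀ q ∈ fixKs.zip fixCert, q.2.length = 27) ∧ fixVec.length = 27 ∧
    ∀ k ∈ fixKs, mulB (tB k) fixVec = fixVec := by
  decide +kernel

/-- a column of the spun matrix -/
def spinCol (w : List ℕ) : BM := w.foldr (fun a acc => mulB (invol.getD a []) acc) fixVec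

theorem spin_ok : mulB spinMat spinInv = oneB ∧ spinMat.length = 27 ∧ spinInv.length = 27 ∧
    spinWords.length = 27 ∧ (∀ w ∈ spinWords, ∀ a ∈ w, 1 ≤ a ∧ a < 9) ∧
    ∀ j : Fin 27, ∀ i : Fin 27,
      ((spinMat.getD i.val (0, 0)).1.testBit j.val =
        ((spinCol (spinWords.getD j.val [])).getD i.val (0, 0)).1.testBit 0) ∧
      ((spinMat.getD i.val (0, 0)).2.testBit j.val =
        ((spinCol (spinWords.getD j.val [])).getD i.val (0, 0)).2.testBit 0) := by
  decide +kernel

variable {K : Type*} [Field K] [CharP K 2] {ω : K} (hω : ω ^ 2 + ω + 1 = 0)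
include hω

theorem toMat_outerB (w : Fin 27 → K) :
    toMat ω outerB *ᵥ w = w ⟨fixPos, by decide⟩ • colv ω fixVec := by
  funext i
  have hl : fixVec.length = 27 := cert_ok.2.2.2.1
  simp only [Matrix.mulVec, dotProduct, toMat, Matrix.of_apply, Pi.smul_apply, smul_eq_mul, colv]
  rw [outerB, getD_map_row _ _ _ (by rw [hl]; exact i.isLt)]
  simp only [val_scl hω, val_two_pow]
  rw [Finset.sum_eq_single (⟨fixPos, by decide⟩ : Fin 27)]
  · simp [val, cval, mul_comm]
  · intro b _ hb
    rw [if_neg fun h => hb (Fin.ext h.symm), mul_zero, zero_mul]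
  · simp

theorem certB_val (w : Fin 27 → K) : ∀ l : List (Fin 9 × BM), (∀ q ∈ l, q.2.length = 27) →
    (∀ q ∈ l, toMat ω (tB q.1) *ᵥ w = w) →
      (certB l).length = 27 ∧ toMat ω (certB l) *ᵥ w = w ⟨fixPos, by decide⟩ • colv ω fixVec
  | [], _, _ => ⟨cert_ok.2.1, toMat_outerB hω w⟩
  | q :: l, hl, hw => by
    obtain ⟨h1, h2⟩ := certB_val w l (fun p hp => hl p (List.mem_cons_of_mem _ hp))
      fun p hp => hw p (List.mem_cons_of_mem _ hp)
    have hq := hl q List.mem_cons_self
    have hs : (addB (tB q.1) oneB).length = 27 := length_addB (invol_ok q.1).1 length_oneB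
    have hp : (mulB q.2 (addB (tB q.1) oneB)).length = 27 := (length_mulB _ _).trans hq
    refine ⟨length_addB hp h1, ?_⟩
    rw [show certB (q :: l) = addB (mulB q.2 (addB (tB q.1) oneB)) (certB l) from rfl,
      toMat_addB ω hp h1, toMat_mulB hω hq hs, toMat_addB ω (invol_ok q.1).1 length_oneB,
      toMat_oneB, Matrix.add_mulVec, h2, ← Matrix.mulVec_mulVec, Matrix.add_mulVec,
      hw q List.mem_cons_self, Matrix.one_mulVec]
    rw [show w + w = (0 : Fin 27 → K) from funext fun i => CharTwo.add_self_eq_zero _,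
      Matrix.mulVec_zero, zero_add]

theorem fixed_line_eq {w : Fin 27 → K} (hw : ∀ k ∈ fixKs, toMat ω (tB k) *ᵥ w = w) :
    w = w ⟨fixPos, by decide⟩ • colv ω fixVec := by
  have h := (certB_val hω w (fixKs.zip fixCert) cert_ok.2.2.1 fun q hq =>
    hw q.1 (List.of_mem_zip hq).1).2
  rwa [cert_ok.1, toMat_oneB, Matrix.one_mulVec] at h

theorem commutant {g : Matrix (Fin 27) (Fin 27) K}
    (h : ∀ k : Fin 9, 1 ≤ k.val → g * toMat ω (tB k) = toMat ω (tB k) * g) :
    ∃ c : K, g = c • (1 : Matrix (Fin 27) (Fin 27) K) := by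
  obtain ⟨hprod, hlS, hlI, hlW, hwords, hcol⟩ := spin_ok
  have hfix : ∀ k ∈ fixKs, toMat ω (tB k) *ᵥ colv ω fixVec = colv ω fixVec := fun k hk => by
    rw [← colv_mulB hω (invol_ok k).1 cert_ok.2.2.2.1, cert_ok.2.2.2.2 k hk]
  have hks : ∀ k ∈ fixKs, 1 ≤ k.val := by decide
  obtain ⟨c, hc⟩ : ∃ c : K, g *ᵥ colv ω fixVec = c • colv ω fixVec := by
    refine ⟨_, fixed_line_eq hω fun k hk => ?_⟩
    rw [Matrix.mulVec_mulVec, ← h k (hks k hk), ← Matrix.mulVec_mulVec, hfix k hk]
  have hspin : ∀ w : List ℕ, (∀ a ∈ w, 1 ≤ a ∧ a < 9) → (spinCol w).length = 27 ∧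
      g *ᵥ colv ω (spinCol w) = c • colv ω (spinCol w) := by
    intro w
    induction w with
    | nil => exact fun _ => ⟨cert_ok.2.2.2.1, hc⟩
    | cons a w ih =>
      intro hw
      obtain ⟨h1, h2⟩ := ih fun b hb => hw b (List.mem_cons_of_mem _ hb)
      obtain ⟨ha1, ha9⟩ := hw a List.mem_cons_self
      have e : spinCol (a :: w) = mulB (tB ⟨a, ha9⟩) (spinCol w) := rfl
      have hl := (invol_ok ⟨a, ha9⟩).1
      rw [e, colv_mulB hω hl h1, Matrix.mulVec_mulVec, h ⟨a, ha9⟩ ha1, ← Matrix.mulVec_mulVec, h2,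
        Matrix.mulVec_smul]
      exact ⟨(length_mulB _ _).trans hl, rfl⟩
  have hS : g * toMat ω spinMat = c • toMat ω spinMat := by
    ext i j
    have hj : spinWords.getD j.val [] ∈ spinWords := by
      rw [List.getD_eq_getElem _ _ (by rw [hlW]; exact j.isLt)]
      exact List.getElem_mem _
    have h3 := congrFun (hspin _ (hwords _ hj)).2 i
    have hv : ∀ k : Fin 27, toMat ω spinMat k j = colv ω (spinCol (spinWords.getD j.val [])) k :=
      fun k => by
        simp only [toMat, Matrix.of_apply, colv, val]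
        rw [(hcol j k).1, (hcol j k).2]
    simp only [Matrix.mulVec, dotProduct, Pi.smul_apply] at h3
    simp only [Matrix.mul_apply, Matrix.smul_apply, hv]
    exact h3
  have hinv : toMat ω spinMat * toMat ω spinInv = 1 := by
    rw [← toMat_mulB hω hlS hlI, hprod, toMat_oneB]
  refine ⟨c, ?_⟩
  rw [← Matrix.mul_one g, ← hinv, ← Matrix.mul_assoc, hS, Matrix.smul_mul]

end Cfsg.Agent.H99.E6.Fi22
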